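import Cfsg.Agent.Lib.Fi24Out.Points
import Cfsg.Prelude.Def_KGroupFacts

/-!
The outer automorphism group of the even part of the presented Fi24 has order two.
-/

set_option autoImplicit false

namespace CfsgLib.Fi24Out

open CfsgLib.CosetEnum Cfsg.Spor CfsgLib.Fi24Pres CfsgLib.Fi24Act
open CfsgLib.Fi23Pres (rho)
open CfsgLib.M24 (Pt tp)

instance finite_ker : Finite par.ker := by
  haveI := finite_card.1
  infer_instance

/-- every subgroup isomorphic to Fi23 fixes a point -/
theorem range_fix (φ : Fi23 →* par.ker) (hφ : Function.Injective φ) : ∃ p : X, ∀ x, φ x • p = p := by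
  haveI : Finite X := inferInstance
  haveI : Fact (Nat.Prime 23) := ⟨by norm_num⟩
  haveI : Fact (Nat.Prime 11) := ⟨by norm_num⟩
  set w := prodW Fi23Pres.gen Fi23Cent.fix23Word
  set y := prodW Fi23Pres.gen normWord
  have hw : orderOf w = 23 := Fi23Cent.order23
  have hy : orderOf y = 11 := Fi23Cent.order_of_checks norm_lt norm_power norm_moves
  have hyw : y * w * y⁻¹ = w ^ 2 := Fi23Cent.conj_of_checks Fi23Cent.lt23 (Fi23Pres.lt_of_blt norm_lt) norm_conj
  obtain ⟨p, hp⟩ : ∃ p : X, φ w • p = p := by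
    have hpg : IsPGroup 23 (Subgroup.zpowers (φ w)) :=
      IsPGroup.of_card (n := 1) (by rw [Nat.card_zpowers, orderOf_injective φ hφ, hw, pow_one])
    obtain ⟨p, hp⟩ := hpg.nonempty_fixed_point_of_prime_not_dvd_card X (by rw [card_X]; norm_num)
    exact ⟨p, hp ⟨φ w, Subgroup.mem_zpowers _⟩⟩
  obtain ⟨c, hc⟩ := MulAction.exists_smul_eq par.ker p pt0
  set ψ : Fi23 →* par.ker := (MulAut.conj c).toMonoidHom.comp φ with hψdef
  have hψapp : ∀ x, ψ x = c * φ x * c⁻¹ := fun x => rfl
  have hψ : Function.Injective ψ := fun a b h => hφ ((MulAut.conj c).injective h)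
  have hcp : c⁻¹ • pt0 = p := by rw [← hc, inv_smul_smul]
  suffices h : ∀ x, ψ x • pt0 = pt0 by
    refine ⟨p, fun x => ?_⟩
    have h' := h x
    rw [hψapp, mul_smul, mul_smul, hcp, ← hc] at h'
    exact MulAction.injective c h'
  have hw0 : ψ w • pt0 = pt0 := by rw [hψapp, mul_smul, mul_smul, hcp, hp, hc]
  obtain ⟨w₁, hw₁⟩ := stab_ker _ hw0
  have hw1o : orderOf w₁ = 23 := by
    rw [← orderOf_injective evenH evenH_injective, hw₁, orderOf_injective ψ hψ, hw]
  have hy0 : ψ y • pt0 = pt0 := by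
    refine fix_twentyThree (w := w₁ ^ 2) (by rw [Nat.Coprime.orderOf_pow (by rw [hw1o]; norm_num), hw1o]) ?_
    rw [map_pow, hw₁, ← map_pow, ← hyw, ← mul_smul, ← map_mul, inv_mul_cancel_right, map_mul, mul_smul, hw0]
  obtain ⟨y₁, hy₁⟩ := stab_ker _ hy0
  have hy1o : orderOf y₁ = 11 := by
    rw [← orderOf_injective evenH evenH_injective, hy₁, orderOf_injective ψ hψ, hy]
  obtain ⟨d₁, b₁, hd₁, hb₁, hne₁, hdb₁, hyd₁, hyb₁, honly₁, -, -, hinv₁⟩ := eleven_cent hy1o
  obtain ⟨d, b, hd, hb, hne, -, hyd, hyb, -, -, -, -⟩ := eleven_cent hy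
  have key : ∀ u ∈ Fi23Pres.transClass, Commute y u → ψ u • pt0 = pt0 := by
    intro u hu hyu
    have hcom : ∀ s : X, ψ y • s = s → ψ y • (ψ u • s) = ψ u • s := fun s hs => by
      rw [← mul_smul, ← map_mul, hyu.eq, map_mul, mul_smul, hs]
    have hinvol : ∀ s : X, ψ u • (ψ u • s) = s := fun s => by
      rw [← mul_smul, ← map_mul, class_sq hu, map_one, one_smul]
    by_contra hmove
    have hP := hcom pt0 hy0
    rw [← hy₁] at hP
    obtain h | ⟨q, hq, hyq⟩ := fix_eleven hy1o hP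
    · exact hmove h
    obtain ⟨q', hne', hyq'⟩ : ∃ q', q' ≠ q ∧ Commute y₁ (tp q') := by
      obtain ⟨qd, rfl⟩ := M24.exists_tp hd₁
      obtain ⟨qb, rfl⟩ := M24.exists_tp hb₁
      rcases honly₁ _ (M24.tp_mem q) hyq with e | e
      · exact ⟨qb, fun h => hne₁ (by rw [h, ← e]), hyb₁⟩
      · exact ⟨qd, fun h => hne₁ (by rw [h, ← e]), hyd₁⟩
    have hR : ψ y • pt2 q' = pt2 q' := by rw [← hy₁]; exact evenH_fix_pt2.mpr hyq'
    have hRu : ψ u • pt2 q' = pt2 q' := by
      have h2 := hcom _ hR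
      rw [← hy₁] at h2
      obtain h | ⟨q'', hq'', hyq''⟩ := fix_eleven hy1o h2
      · exfalso
        refine hne' (pt2_inj ?_)
        rw [← hinvol (pt2 q'), h, hq]
      · rw [hq'']
        refine congrArg pt2 ?_
        rcases honly₁ _ (M24.tp_mem q'') hyq'' with e1 | e1 <;>
          rcases honly₁ _ (M24.tp_mem q') hyq' with e2 | e2 <;>
          rcases honly₁ _ (M24.tp_mem q) hyq with e3 | e3
        all_goals first
          | exact M24.tp_inj (e1.trans e2.symm)
          | exact absurd (M24.tp_inj (e2.trans e3.symm)) hne'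
          | (exfalso
             have e4 : pt2 q'' = pt2 q := congrArg pt2 (M24.tp_inj (e1.trans e3.symm))
             rw [← hq'', ← hq] at e4
             exact pt2_ne_pt0 q' (MulAction.injective (ψ u) e4))
    obtain ⟨n, hn⟩ := MulAction.exists_smul_eq par.ker (pt2 q') pt0
    have hn' : n⁻¹ • pt0 = pt2 q' := by rw [← hn, inv_smul_smul]
    obtain ⟨y₂, hy₂⟩ := stab_ker (n * ψ y * n⁻¹) (by rw [mul_smul, mul_smul, hn', hR, hn])
    obtain ⟨u₂, hu₂⟩ := stab_ker (n * ψ u * n⁻¹) (by rw [mul_smul, mul_smul, hn', hRu, hn])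
    have hy2o : orderOf y₂ = 11 := by
      rw [← orderOf_injective evenH evenH_injective, hy₂, show n * ψ y * n⁻¹ = MulAut.conj n (ψ y) from rfl,
        MulEquiv.orderOf_eq, orderOf_injective ψ hψ, hy]
    have hyu2 : Commute y₂ u₂ := evenH_injective (by
      rw [map_mul, map_mul, hy₂, hu₂]
      exact ((Commute.conj_iff n).mpr (hyu.map ψ)).eq)
    obtain ⟨dd, bb, -, -, -, -, -, -, honly₂, hboth₂, -, -⟩ := eleven_cent hy2o
    have hfix2 : evenH y₂ • (n • pt0) = n • pt0 := by rw [hy₂, mul_smul, inv_smul_smul, mul_smul, hy0]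
    obtain h | ⟨q₂, hq₂, hyq₂⟩ := fix_eleven hy2o hfix2
    · exact pt2_ne_pt0 q' (MulAction.injective n (hn.trans h.symm))
    have hu2q : evenH u₂ • (n • pt0) = n • pt0 := by
      rw [hq₂]
      refine evenH_fix_pt2.mpr ?_
      rcases honly₂ _ (M24.tp_mem q₂) hyq₂ with e | e <;> rw [e]
      exacts [(hboth₂ u₂ hyu2).1, (hboth₂ u₂ hyu2).2]
    rw [hu₂, mul_smul, inv_smul_smul, mul_smul] at hu2q
    exact hmove (MulAction.injective n hu2q)
  set L : Subgroup Fi23 := ψ.range.comap evenH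
  have himg : ∀ u ∈ Fi23Pres.transClass, Commute y u →
      ∃ u₁, u₁ ∈ L ∧ evenH u₁ = ψ u ∧ (u₁ = d₁ ∨ u₁ = b₁ ∨ u₁ = d₁ * b₁) := by
    intro u hu hyu
    obtain ⟨u₁, hu₁⟩ := stab_ker _ (key u hu hyu)
    refine ⟨u₁, ⟨u, hu₁.symm⟩, hu₁, ?_⟩
    refine (hinv₁ u₁ (evenH_injective ?_) (evenH_injective ?_)).resolve_left fun e => ?_
    · rw [map_mul, map_mul, hy₁, hu₁, ← map_mul, hyu.eq, map_mul]
    · rw [map_mul, hu₁, ← map_mul, class_sq hu, map_one, map_one]
    · rw [e, map_one, ← map_one ψ] at hu₁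
      have h2 := Fi23Pres.transClass_three.1.1 u hu
      rw [← hψ hu₁, orderOf_one] at h2
      norm_num at h2
  obtain ⟨u₁, hu₁L, eu₁, hu₁c⟩ := himg d hd hyd
  obtain ⟨v₁, hv₁L, ev₁, hv₁c⟩ := himg b hb hyb
  have huv : u₁ ≠ v₁ := fun e => hne (hψ (eu₁.symm.trans ((congrArg evenH e).trans ev₁)))
  have d2 := class_sq hd₁
  have b2 := class_sq hb₁
  have hmem : d₁ ∈ L ∧ b₁ ∈ L := by
    have q1 : d₁ * (d₁ * b₁) = b₁ := by rw [← mul_assoc, d2, one_mul]
    have q2 : d₁ * b₁ * b₁ = d₁ := by rw [mul_assoc, b2, mul_one]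
    rcases hu₁c with rfl | rfl | rfl <;> rcases hv₁c with rfl | rfl | rfl
    · exact absurd rfl huv
    · exact ⟨hu₁L, hv₁L⟩
    · exact ⟨hu₁L, q1 ▸ mul_mem hu₁L hv₁L⟩
    · exact ⟨hv₁L, hu₁L⟩
    · exact absurd rfl huv
    · exact ⟨q2 ▸ mul_mem hv₁L hu₁L, hu₁L⟩
    · exact ⟨hv₁L, q1 ▸ mul_mem hv₁L hu₁L⟩
    · exact ⟨q2 ▸ mul_mem hu₁L hv₁L, hv₁L⟩
    · exact absurd rfl huv
  have hn1 : y₁ * w₁ * y₁⁻¹ ∈ Subgroup.zpowers w₁ := by
    refine Subgroup.mem_zpowers_iff.mpr ⟨2, evenH_injective ?_⟩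
    rw [map_zpow, map_mul, map_mul, map_inv, hy₁, hw₁, ← map_inv, ← map_mul, ← map_mul, hyw, map_pow,
      zpow_two, pow_two]
  have hL : L = ⊤ := eq_top_of_eleven hw1o hy1o hn1 ⟨w, hw₁.symm⟩ fun t ht hyt => by
    rcases honly₁ t ht hyt with rfl | rfl
    exacts [hmem.1, hmem.2]
  have hle : evenH.range ≤ ψ.range := by
    rintro _ ⟨x, rfl⟩
    exact (show x ∈ L from hL ▸ Subgroup.mem_top x)
  have heq : evenH.range = ψ.range := Subgroup.eq_of_le_of_card_ge hle (by
    rw [← Nat.card_congr (MonoidHom.ofInjective hψ).toEquiv,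
      ← Nat.card_congr (MonoidHom.ofInjective evenH_injective).toEquiv])
  intro x
  obtain ⟨z, hz⟩ := (heq ▸ ⟨x, rfl⟩ : ψ x ∈ evenH.range)
  rw [← hz]
  exact evenH_pt0 z

/-- a subgroup containing the stabiliser and moving the base point is everything -/
theorem eq_top_of_move (L : Subgroup par.ker) (hL : ∀ x, evenH x ∈ L) {g : par.ker} (hg : g ∈ L)
    (hmove : g • pt0 ≠ pt0) : L = ⊤ := by
  set B := MulAction.orbit L pt0 with hB
  have hcl : ∀ p ∈ B, ∀ p' : X, p'.1 = p.1 → p' ∈ B := by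
    intro p hp p' hp'
    obtain ⟨a, ha⟩ := even_move p
    obtain ⟨c, hc⟩ := even_move p'
    rw [hp'] at hc
    obtain ⟨n, rfl⟩ := hp
    refine ⟨⟨evenH (c * a⁻¹) * n.1, mul_mem (hL _) n.2⟩, ?_⟩
    show (evenH (c * a⁻¹) * n.1) • pt0 = p'
    rw [mul_smul, map_mul, mul_smul, map_inv, ← hc, ← evenH_smul]
    refine congrArg (evenH c • ·) ?_
    rw [inv_smul_eq_iff, evenH_smul]
    exact ha.symm
  have h0 : pt0 ∈ B := MulAction.mem_orbit_self _
  have hcardB : B.ncard ∣ 306936 := by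
    have h1 := MulAction.index_stabilizer (G := L) (x := pt0)
    have h2 := (MulAction.stabilizer L pt0).card_mul_index
    have h3 : Nat.card (MulAction.stabilizer L pt0) = Nat.card Fi23 := by
      refine (Nat.card_eq_of_bijective
        (fun x : Fi23 => (⟨⟨evenH x, hL x⟩, evenH_pt0 x⟩ : MulAction.stabilizer L pt0))
        ⟨fun a c e => evenH_injective (congrArg (fun z : MulAction.stabilizer L pt0 => (z : L).1) e), ?_⟩).symm
      rintro ⟨⟨n, hn⟩, hn0⟩
      obtain ⟨x, rfl⟩ := stab_ker n hn0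
      exact ⟨x, rfl⟩
    rw [h1, h3, Fi23Pres.card_faithful.1] at h2
    have h4 := L.card_subgroup_dvd_card
    rw [← h2, card_ker, show 1255205709190661721292800 = 4089470473293004800 * 306936 by norm_num] at h4
    exact Nat.dvd_of_mul_dvd_mul_left (by norm_num) h4
  obtain ⟨c1, c2, c0⟩ := kind_cards
  have hdis : ∀ s t : Fin 3, s ≠ t → Disjoint {p : X | p.1 = s} {p : X | p.1 = t} := fun s t h =>
    Set.disjoint_left.mpr fun q h1 h2 => h (h1.symm.trans h2)
  have hall : ∀ p : X, p ∈ B := by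
    by_contra! hnot
    obtain ⟨p, hp⟩ := hnot
    have hgB : g • pt0 ∈ B := ⟨⟨g, hg⟩, rfl⟩
    have h1 : (g • pt0).1 ≠ (0 : Fin 3) := fun e => hmove (eq_pt0 e)
    have h2 : p.1 ≠ (0 : Fin 3) := fun e => hp (eq_pt0 e ▸ h0)
    have h3 : p.1 ≠ (g • pt0).1 := fun e => hp (hcl _ hgB p e)
    have e : B = {q : X | q.1 = (0 : Fin 3)} ∪ {q : X | q.1 = (g • pt0).1} := by
      ext q
      constructor
      · intro hq
        by_contra hc
        simp only [Set.mem_union, Set.mem_ofPred_eq, not_or] at hc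
        exact hp (hcl q hq p (by omega))
      · rintro (h | h)
        exacts [hcl _ h0 q h, hcl _ hgB q h]
    rw [e, Set.ncard_union_eq (hdis _ _ h1.symm) (Set.toFinite _) (Set.toFinite _), kind_ncard, kind_ncard,
      c0] at hcardB
    rcases (show (g • pt0).1 = (1 : Fin 3) ∨ (g • pt0).1 = (2 : Fin 3) by omega) with e' | e' <;>
      rw [e'] at hcardB
    · rw [c1] at hcardB; norm_num at hcardB
    · rw [c2] at hcardB; norm_num at hcardB
  refine eq_top_iff.mpr fun n _ => ?_
  obtain ⟨m, hm⟩ := hall (n • pt0)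
  have hm' : (m : par.ker) • pt0 = n • pt0 := hm
  obtain ⟨x, hx⟩ := stab_ker ((m : par.ker)⁻¹ * n) (by rw [mul_smul, ← hm', inv_smul_smul])
  rw [show n = (m : par.ker) * evenH x by rw [hx, mul_inv_cancel_left]]
  exact mul_mem m.2 (hL x)

/-- conjugation by the transposition `gen 10` -/
noncomputable def delta : MulAut par.ker := MulAut.conjNormal (gen 10)

theorem delta_evenH (x : Fi23) : delta (evenH x) = evenH x := by
  refine Subtype.ext ?_
  rw [delta, MulAut.conjNormal_apply]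
  have h : Commute (evenH x : Fi24) (gen 10) := ten_subH (psiK_mem _)
  rw [h.symm.eq, mul_inv_cancel_right]

theorem delta_ne_one : delta ≠ 1 := by
  intro h
  have hc : ∀ n ∈ par.ker, Commute n (gen 10) := fun n hn => by
    have e := congrArg Subtype.val (DFunLike.congr_fun h ⟨n, hn⟩)
    rw [delta, MulAut.conjNormal_apply] at e
    exact (mul_inv_eq_iff_eq_mul.mp e).symm
  have htop : subH = ⊤ := by
    rw [eq_top_iff, ← centralizer_ten]
    intro g _
    rw [Subgroup.mem_centralizer_singleton_iff]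
    by_cases hg : par g = 1
    · exact (hc g hg).eq
    · have hg' : g * gen 10 ∈ par.ker := by
        rw [MonoidHom.mem_ker, map_mul, par_gen (by norm_num)]
        revert hg
        generalize par g = t
        revert t; decide
      have := (hc _ hg').mul_left (Commute.refl (gen 10))
      rw [mul_assoc, gen_sq, mul_one] at this
      exact this.eq
  have hi := subH_index
  rw [htop, Subgroup.index_top] at hi
  norm_num at hi

/-- there are at most two automorphisms fixing the stabiliser pointwise -/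
theorem fixing_cases {α : MulAut par.ker} (hα : ∀ x, α (evenH x) = evenH x) : α = 1 ∨ α = delta := by
  haveI : Fact (Nat.Prime 11) := ⟨by norm_num⟩
  set y := prodW Fi23Pres.gen normWord
  have hy : orderOf y = 11 := Fi23Cent.order_of_checks norm_lt norm_power norm_moves
  obtain ⟨d, b, hd, -, -, -, hyd, -⟩ := eleven_cent hy
  obtain ⟨q, rfl⟩ := M24.exists_tp hd
  obtain ⟨g, hg⟩ := MulAction.exists_smul_eq par.ker (pt2 q) pt0
  have hginv : g⁻¹ • pt0 = pt2 q := by rw [← hg, inv_smul_smul]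
  obtain ⟨y₁, hy₁⟩ := stab_ker (g * evenH y * g⁻¹)
    (by rw [mul_smul, mul_smul, hginv, evenH_fix_pt2.mpr hyd, hg])
  have hy1o : orderOf y₁ = 11 := by
    rw [← orderOf_injective evenH evenH_injective, hy₁,
      show g * evenH y * g⁻¹ = MulAut.conj g (evenH y) from rfl, MulEquiv.orderOf_eq,
      orderOf_injective evenH evenH_injective, hy]
  have hg0 : g • pt0 ≠ pt0 := fun e => pt2_ne_pt0 q (MulAction.injective g (hg.trans e.symm))
  obtain ⟨r, hr⟩ : ∃ r, g • pt0 = pt2 r := by
    have hfix : evenH y₁ • (g • pt0) = g • pt0 := by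
      rw [hy₁, mul_smul, inv_smul_smul, mul_smul, evenH_pt0]
    obtain h | ⟨r, hr, -⟩ := fix_eleven hy1o hfix
    · exact absurd h hg0
    · exact ⟨r, hr⟩
  have hstep : ∀ β : MulAut par.ker, (∀ x, β (evenH x) = evenH x) → β g = g ∨ β g = g * evenH (tp q) := by
    intro β hβ
    have hP' : β g • pt0 = pt2 r := by
      rcases fix_pair r (p := β g • pt0) (fun x hx => by
        have hfix : evenH x • (g • pt0) = g • pt0 := by rw [hr]; exact evenH_fix_pt2.mpr hx
        obtain ⟨x', hx'⟩ := stab_ker (g⁻¹ * evenH x * g) (by rw [mul_smul, mul_smul, hfix, inv_smul_smul])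
        have e : evenH x * β g = β g * evenH x' := by
          rw [← hβ x, ← map_mul, ← hβ x', ← map_mul]
          exact congrArg β (by rw [hx']; group)
        rw [← mul_smul, e, mul_smul, evenH_pt0]) with h | h
      · exfalso
        obtain ⟨z, hz⟩ := stab_ker _ h
        rw [← hβ z] at hz
        exact hg0 (β.injective hz ▸ evenH_pt0 z)
      · exact h
    obtain ⟨h₀, hh₀⟩ := stab_ker (g⁻¹ * β g) (by rw [mul_smul, hP', ← hr, inv_smul_smul])
    have hβg : β g = g * evenH h₀ := by rw [hh₀, mul_inv_cancel_left]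
    have hcen : ∀ x, Commute x (tp q) → Commute h₀ x := by
      intro x hx
      obtain ⟨z, hz⟩ := stab_ker (g * evenH x * g⁻¹)
        (by rw [mul_smul, mul_smul, hginv, evenH_fix_pt2.mpr hx, hg])
      have e : β (g * evenH x * g⁻¹) = g * evenH x * g⁻¹ := by rw [← hz, hβ]
      rw [map_mul, map_mul, hβ, map_inv, hβg] at e
      have e' : evenH h₀ * evenH x * (evenH h₀)⁻¹ = evenH x := by
        calc evenH h₀ * evenH x * (evenH h₀)⁻¹
            = g⁻¹ * (g * evenH h₀ * evenH x * (g * evenH h₀)⁻¹) * g := by group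
          _ = g⁻¹ * (g * evenH x * g⁻¹) * g := by rw [e]
          _ = evenH x := by group
      rw [← map_inv, ← map_mul, ← map_mul] at e'
      exact mul_inv_eq_iff_eq_mul.mp (evenH_injective e')
    rcases center_pair q hcen hy hyd with rfl | rfl
    · exact Or.inl (by rw [hβg, map_one, mul_one])
    · exact Or.inr hβg
  have hext : ∀ β γ : MulAut par.ker, (∀ x, β (evenH x) = γ (evenH x)) → β g = γ g → β = γ := by
    intro β γ h1 h2
    refine MulEquiv.ext fun n => ?_
    have htop := eq_top_of_move (MonoidHom.eqLocus β.toMonoidHom γ.toMonoidHom) h1 h2 hg0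
    exact (show n ∈ MonoidHom.eqLocus β.toMonoidHom γ.toMonoidHom from htop ▸ Subgroup.mem_top n)
  rcases hstep α hα with h | h
  · exact Or.inl (hext α 1 hα h)
  · refine Or.inr (hext α delta (fun x => (hα x).trans (delta_evenH x).symm) ?_)
    rcases hstep delta delta_evenH with h' | h'
    · exact absurd (hext delta 1 delta_evenH h') delta_ne_one
    · exact h.trans h'.symm

theorem delta_not_inner : delta ∉ Cfsg.Inn par.ker := by
  rintro ⟨e, he⟩
  have hce : ∀ x, Commute e (evenH x) := fun x => by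
    have h := DFunLike.congr_fun he (evenH x)
    rw [delta_evenH, MulAut.conj_apply] at h
    exact mul_inv_eq_iff_eq_mul.mp h
  have hw : orderOf (prodW Fi23Pres.gen Fi23Cent.fix23Word) = 23 := Fi23Cent.order23
  have h0 : e • pt0 = pt0 := fix_twentyThree hw (by
    rw [← mul_smul, ← (hce _).eq, mul_smul, evenH_pt0])
  obtain ⟨z, rfl⟩ := stab_ker e h0
  have hz : z ∈ Subgroup.center Fi23 := Subgroup.mem_center_iff.mpr fun x =>
    evenH_injective (by rw [map_mul, map_mul]; exact (hce x).eq.symm)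
  haveI : IsSimpleGroup Fi23 := Fi23Pres.isFi23.1
  rcases (inferInstance : (Subgroup.center Fi23).Normal).eq_bot_or_eq_top with hbot | htop
  · rw [hbot, Subgroup.mem_bot] at hz
    rw [hz, map_one, map_one] at he
    exact delta_ne_one he.symm
  · have hyw := Fi23Cent.conj_of_checks Fi23Cent.lt23 (Fi23Pres.lt_of_blt norm_lt) norm_conj
    have hcomm := Subgroup.mem_center_iff.mp
      (htop ▸ Subgroup.mem_top (prodW Fi23Pres.gen Fi23Cent.fix23Word) :
        prodW Fi23Pres.gen Fi23Cent.fix23Word ∈ Subgroup.center Fi23) (prodW Fi23Pres.gen normWord)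
    rw [hcomm, mul_inv_cancel_right, pow_two, left_eq_mul] at hyw
    rw [hyw, orderOf_one] at hw
    norm_num at hw

/-- every automorphism is inner or inner times `delta` -/
theorem out_cases (α : MulAut par.ker) :
    (QuotientGroup.mk α : Cfsg.Out par.ker) = 1 ∨ (QuotientGroup.mk α : Cfsg.Out par.ker) = QuotientGroup.mk delta := by
  obtain ⟨p, hp⟩ := range_fix (α.toMonoidHom.comp evenH) (α.injective.comp evenH_injective)
  obtain ⟨c, hc⟩ := MulAction.exists_smul_eq par.ker p pt0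
  have hfix : ∀ x, (MulAut.conj c * α) (evenH x) • pt0 = pt0 := fun x => by
    show (c * α (evenH x) * c⁻¹) • pt0 = pt0
    rw [mul_smul, mul_smul, show c⁻¹ • pt0 = p by rw [← hc, inv_smul_smul],
      show α (evenH x) • p = p from hp x, hc]
  let β : Fi23 →* Fi23 :=
    { toFun := fun x => (stab_ker _ (hfix x)).choose
      map_one' := evenH_injective (by rw [(stab_ker _ (hfix 1)).choose_spec, map_one, map_one])
      map_mul' := fun x x' => evenH_injective
        (((stab_ker _ (hfix (x * x'))).choose_spec.trans (by simp only [map_mul])).trans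
          ((congrArg₂ (· * ·) (stab_ker _ (hfix x)).choose_spec.symm
            (stab_ker _ (hfix x')).choose_spec.symm).trans (map_mul evenH _ _).symm)) }
  have hβ : ∀ x, evenH (β x) = (MulAut.conj c * α) (evenH x) := fun x => (stab_ker _ (hfix x)).choose_spec
  have hβinj : Function.Injective β := fun x x' h => evenH_injective
    ((MulAut.conj c * α).injective (by rw [← hβ, ← hβ, h]))
  haveI : Finite Fi23 := Fi23Pres.finite_and_card.1
  let βe : MulAut Fi23 := MulEquiv.ofBijective β ⟨hβinj, Finite.injective_iff_surjective.mp hβinj⟩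
  have hout := (Nat.card_eq_one_iff_unique.mp Fi23Pres.out_card).1
  obtain ⟨z, hz⟩ : βe ∈ Cfsg.Inn Fi23 :=
    (QuotientGroup.eq_one_iff βe).mp (Subsingleton.elim _ _)
  have hz' : ∀ x, β x = z * x * z⁻¹ := fun x => (DFunLike.congr_fun hz x).symm
  set γ := MulAut.conj ((evenH z)⁻¹ * c) * α with hγ
  have hγfix : ∀ x, γ (evenH x) = evenH x := fun x => by
    show (evenH z)⁻¹ * c * α (evenH x) * ((evenH z)⁻¹ * c)⁻¹ = evenH x
    calc (evenH z)⁻¹ * c * α (evenH x) * ((evenH z)⁻¹ * c)⁻¹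
        = (evenH z)⁻¹ * (c * α (evenH x) * c⁻¹) * evenH z := by group
      _ = (evenH z)⁻¹ * evenH (β x) * evenH z := by rw [hβ]; rfl
      _ = evenH x := by rw [hz', map_mul, map_mul, map_inv]; group
  have hmk : (QuotientGroup.mk α : Cfsg.Out par.ker) = QuotientGroup.mk γ := by
    rw [hγ, QuotientGroup.mk_mul,
      (QuotientGroup.eq_one_iff (MulAut.conj ((evenH z)⁻¹ * c))).mpr
        (show MulAut.conj ((evenH z)⁻¹ * c) ∈ Cfsg.Inn par.ker from ⟨_, rfl⟩), one_mul]
  rcases fixing_cases hγfix with h | h <;> rw [hmk, h]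
  · exact Or.inl rfl
  · exact Or.inr rfl

theorem out_card : Nat.card (Cfsg.Out par.ker) = 2 := by
  refine Nat.card_eq_two_iff.mpr ⟨1, QuotientGroup.mk delta, ?_, ?_⟩
  · intro h
    exact delta_not_inner ((QuotientGroup.eq_one_iff delta).mp h.symm)
  · refine Set.eq_univ_iff_forall.mpr fun a => ?_
    obtain ⟨α, rfl⟩ := QuotientGroup.mk_surjective a
    exact out_cases α

theorem out_fi24' : Nat.card (Cfsg.Out Fi24') = 2 := by
  show Nat.card (Cfsg.Out ↥(commutator Fi24)) = 2
  rw [commutator_eq]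
  exact out_card

end CfsgLib.Fi24Out
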